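import Mathlib.RingTheory.Smooth.Basic
import Mathlib.RingTheory.DualNumber
import Mathlib.RingTheory.Ideal.Quotient.Operations
import Mathlib.RingTheory.Kaehler.Basic

/-!
# Sections of a first order thickening through prescribed points
-/

set_option autoImplicit false
universe u v

namespace Groth.Agent.DefTriv

open TrivSqZeroExt

theorem exists_section_through {k B B' : Type u} [Field k] [CommRing B] [CommRing B'] [Algebra k B] [Algebra k B']
    [Algebra.FormallySmooth k B] (π0 : B' →ₐ[k] B) (hπ : Function.Surjective π0) (ε' : B') (hε2 : ε' * ε' = 0)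
    (hker : RingHom.ker (π0 : B' →+* B) = Ideal.span {ε'}) {ι : Type v} [Finite ι] (ev : ι → B →ₐ[k] k)
    (hinj : Function.Injective ev) (ev' : ι → B' →ₐ[k] DualNumber k)
    (hcompat : ∀ j b', fst (ev' j b') = ev j (π0 b')) (hε : ∀ j, ev' j ε' = DualNumber.eps) :
    ∃ σ : B →ₐ[k] B', (∀ b, π0 (σ b) = b) ∧ ∀ j b, ev' j (σ b) = inl (ev j b) := by
  classical
  have hnil : IsNilpotent (RingHom.ker (π0 : B' →+* B)) := ⟨2, by
    rw [hker, pow_two, Ideal.span_singleton_mul_span_singleton, hε2, Ideal.zero_eq_bot, Ideal.span_singleton_eq_bot]⟩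
  let σ0 : B →ₐ[k] B' := Algebra.FormallySmooth.liftOfSurjective (AlgHom.id k B) π0 hπ hnil
  have hσ0 : ∀ b, π0 (σ0 b) = b := fun b =>
    Algebra.FormallySmooth.liftOfSurjective_apply (AlgHom.id k B) π0 hπ hnil b
  have hfst : ∀ j b, fst (ev' j (σ0 b)) = ev j b := fun j b => by rw [hcompat, hσ0]
  letI : Module B (ι → k) := Module.compHom _ (Pi.ringHom fun j => (ev j).toRingHom)
  have hsmul : ∀ (b : B) (w : ι → k) j, (b • w) j = ev j b * w j := fun b w j => rfl
  haveI : IsScalarTower k B (ι → k) := IsScalarTower.of_algebraMap_smul fun c w => funext fun j => by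
    rw [hsmul, AlgHom.commutes]; rfl
  let d : Derivation k B (ι → k) := Derivation.mk'
    { toFun := fun b j => snd (ev' j (σ0 b))
      map_add' := fun a b => funext fun j => by rw [map_add, map_add, snd_add]; rfl
      map_smul' := fun c b => funext fun j => by rw [map_smul, map_smul, snd_smul]; rfl }
    fun a b => funext fun j => by
      change snd (ev' j (σ0 (a * b))) = ev j a * snd (ev' j (σ0 b)) + ev j b * snd (ev' j (σ0 a))
      rw [map_mul, map_mul, DualNumber.snd_mul, hfst, hfst]
      ring
  let e : B →ₗ[B] (ι → k) :=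
    { toFun := fun b j => ev j b
      map_add' := fun a b => funext fun j => map_add _ a b
      map_smul' := fun a b => funext fun j => map_mul _ a b }
  have hco : Pairwise fun i j => IsCoprime (RingHom.ker (ev i).toRingHom) (RingHom.ker (ev j).toRingHom) := by
    intro i j hij
    have hm : ∀ l, (RingHom.ker (ev l).toRingHom).IsMaximal := fun l =>
      RingHom.ker_isMaximal_of_surjective _ fun c => ⟨algebraMap k B c, (ev l).commutes c⟩
    refine Ideal.isCoprime_iff_sup_eq.2 ((hm i).coprime_of_ne (hm j) fun h => hij (hinj (AlgHom.ext fun b => ?_)))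
    have h1 : b - algebraMap k B (ev i b) ∈ RingHom.ker (ev i).toRingHom := by
      rw [RingHom.mem_ker]
      exact (map_sub (ev i) _ _).trans (by rw [AlgHom.commutes]; exact sub_self _)
    rw [h, RingHom.mem_ker] at h1
    have h2 : ev j b - ev i b = 0 := by
      refine Eq.trans ?_ h1
      change _ = ev j (b - algebraMap k B (ev i b))
      rw [map_sub, AlgHom.commutes]; rfl
    exact (sub_eq_zero.1 h2).symm
  have he : Function.Surjective e := fun w => by
    obtain ⟨r, hr⟩ := Ideal.exists_forall_sub_mem_ideal hco (fun j => algebraMap k B (w j))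
    refine ⟨r, funext fun j => ?_⟩
    have h := hr j
    rw [RingHom.mem_ker] at h
    refine sub_eq_zero.1 (Eq.trans ?_ h)
    change ev j r - w j = ev j (r - algebraMap k B (w j))
    rw [map_sub, AlgHom.commutes]; rfl
  obtain ⟨L, hL⟩ := Module.projective_lifting_property e d.liftKaehlerDifferential he
  let δ : Derivation k B B := L.compDer (KaehlerDifferential.D k B)
  have hδ : ∀ j b, ev j (δ b) = snd (ev' j (σ0 b)) := fun j b => by
    have h := LinearMap.congr_fun hL (KaehlerDifferential.D k B b)
    rw [Derivation.liftKaehlerDifferential_comp_D] at h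
    exact congrFun h j
  let σ : B →ₐ[k] B' :=
    { toFun := fun b => σ0 b - ε' * σ0 (δ b)
      map_one' := by rw [map_one, Derivation.map_one_eq_zero, map_zero, mul_zero, sub_zero]
      map_mul' := fun a b => by
        rw [Derivation.leibniz, smul_eq_mul, smul_eq_mul, map_add, map_mul, map_mul, map_mul]
        linear_combination (-(σ0 (δ a) * σ0 (δ b))) * hε2
      map_zero' := by rw [map_zero, map_zero, map_zero, mul_zero, sub_zero]
      map_add' := fun a b => by rw [map_add, map_add, map_add]; ring
      commutes' := fun c => by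
        rw [Derivation.map_algebraMap, map_zero, mul_zero, sub_zero, AlgHom.commutes] }
  have hπε : π0 ε' = 0 := RingHom.mem_ker.1 (hker ▸ Ideal.mem_span_singleton_self ε')
  refine ⟨σ, fun b => ?_, fun j b => ?_⟩
  · change π0 (σ0 b - ε' * σ0 (δ b)) = b
    rw [map_sub, map_mul, hπε, zero_mul, sub_zero, hσ0]
  · change ev' j (σ0 b - ε' * σ0 (δ b)) = inl (ev j b)
    rw [map_sub, map_mul, hε]
    refine TrivSqZeroExt.ext ?_ ?_
    · rw [fst_sub, fst_mul, hfst, DualNumber.fst_eps, zero_mul, sub_zero, fst_inl]
    · rw [snd_sub, DualNumber.snd_mul, DualNumber.fst_eps, DualNumber.snd_eps, hfst, hδ, snd_inl]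
      ring

end Groth.Agent.DefTriv
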